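import Groth.Agent.Lib.ExactProd8.Prod
import Mathlib.Algebra.Homology.HomologySequenceLemmas
import Mathlib.CategoryTheory.Functor.OfSequence
import Mathlib.CategoryTheory.Filtered.Final
import Mathlib.CategoryTheory.Limits.Final

/-!
Limits of towers with split transition maps under exact countable products.
-/

set_option autoImplicit false
set_option linter.style.haveILetI false
set_option linter.unusedSectionVars false
set_option backward.isDefEq.respectTransparency false
set_option backward.isDefEq.respectTransparency.types false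

universe v u

open CategoryTheory CategoryTheory.Limits Opposite

noncomputable section

namespace Groth.Agent.TowerKInj13

section Tower

variable {C : Type*} [Category* C] [Preadditive C] [HasKernels C] [HasLimitsOfShape (Discrete ℕ) C] (F : ℕᵒᵖ ⥤ C)

/-- The transition maps of a tower. -/
abbrev step (n : ℕ) : F.obj (op (n + 1)) ⟶ F.obj (op n) := F.map (homOfLE (Nat.le_succ n)).op

/-- One minus the shift on the product. -/
def diff : ∏ᶜ (fun n : ℕ => F.obj (op n)) ⟶ ∏ᶜ fun n : ℕ => F.obj (op n) :=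
  Pi.lift fun n => Pi.π _ n - Pi.π _ (n + 1) ≫ step F n

@[reassoc]
theorem diff_π (n : ℕ) : diff F ≫ Pi.π _ n = Pi.π _ n - Pi.π _ (n + 1) ≫ step F n := Pi.lift_π _ n

/-- The cone on the kernel of one minus the shift. -/
def kerCone : Cone F where
  pt := kernel (diff F)
  π := NatTrans.ofOpSequence (fun n => kernel.ι (diff F) ≫ Pi.π _ n) fun n => by
    have h := (kernel.ι (diff F)) ≫= diff_π F n
    rw [← Category.assoc, kernel.condition, zero_comp, Preadditive.comp_sub] at h
    dsimp
    rw [Category.id_comp]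
    exact (sub_eq_zero.1 h.symm).trans (Category.assoc _ _ _).symm

/-- The kernel of one minus the shift is the limit. -/
def isLimitKerCone : IsLimit (kerCone F) where
  lift s := kernel.lift _ (Pi.lift fun n => s.π.app (op n)) (Pi.hom_ext _ _ fun n => by
    rw [Category.assoc, diff_π, Preadditive.comp_sub, Pi.lift_π, Pi.lift_π_assoc, zero_comp, sub_eq_zero]
    exact (s.w (homOfLE (Nat.le_succ n)).op).symm)
  fac s j := by
    obtain ⟨n⟩ := j
    show kernel.lift _ _ _ ≫ kernel.ι _ ≫ Pi.π _ n = _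
    rw [kernel.lift_ι_assoc, Pi.lift_π]
  uniq s f hf := by
    refine (cancel_mono (kernel.ι (diff F))).1 ?_
    rw [kernel.lift_ι]
    refine Pi.hom_ext _ _ fun n => ?_
    rw [Pi.lift_π, Category.assoc]
    exact hf (op n)

theorem hasLimitsOfShape_nat_op : HasLimitsOfShape ℕᵒᵖ C :=
  ⟨fun F => ⟨⟨⟨kerCone F, isLimitKerCone F⟩⟩⟩⟩

variable {F} {G : ℕᵒᵖ ⥤ C} (α : F ⟶ G)

theorem diff_natural : diff F ≫ Limits.Pi.map (fun n => α.app (op n)) = Limits.Pi.map (fun n => α.app (op n)) ≫ diff G := by
  refine Pi.hom_ext _ _ fun n => ?_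
  rw [Category.assoc, Limits.Pi.map_π, Category.assoc, diff_π, diff_π_assoc, Preadditive.comp_sub, Limits.Pi.map_π,
    Preadditive.sub_comp, Limits.Pi.map_π_assoc, Category.assoc]
  simp [step]

/-- A constant tower has itself as limit. -/
theorem isIso_toKernel_const (K : C) :
    IsIso ((isLimitKerCone ((Functor.const ℕᵒᵖ).obj K)).lift ⟨K, 𝟙 _⟩) := by
  let T := (Functor.const ℕᵒᵖ).obj K
  have h : ∀ n, (kerCone T).π.app (op n) = (kerCone T).π.app (op 0) := fun n => by
    induction n with
    | zero => rfl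
    | succ n ih => rw [← ih, ← (kerCone T).w (homOfLE (Nat.le_succ n)).op]; exact (Category.comp_id _).symm
  refine ⟨(kerCone T).π.app (op 0), (isLimitKerCone T).fac _ _, (isLimitKerCone T).hom_ext fun j => ?_⟩
  obtain ⟨n⟩ := j
  rw [Category.assoc, (isLimitKerCone T).fac, Category.id_comp, h n]
  exact Category.comp_id _

end Tower

variable {A : Type u} [Category.{v} A] [Abelian A] [HasLimitsOfShape (Discrete ℕ) A]

/-- Degreewise split transition maps make one minus the shift surjective. -/
theorem epi_diff (F : ℕᵒᵖ ⥤ CochainComplex A ℤ) (h : ∀ n i, IsSplitEpi ((step F n).f i)) : Epi (diff F) := by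
  haveI : ∀ i, Epi ((diff F).f i) := fun i => by
    let X : ℕ → CochainComplex A ℤ := fun n => F.obj (op n)
    let P := (∏ᶜ X).X i
    let π : ∀ n, P ⟶ (X n).X i := fun n => (Pi.π X n).f i
    let hlim : IsLimit (Fan.mk P π) :=
      isLimitFanMkObjOfIsLimit (HomologicalComplex.eval A (ComplexShape.up ℤ) i) X _ (productIsProduct X)
    let x : ∀ n, P ⟶ (X n).X i := fun n =>
      Nat.rec 0 (fun n xn => (xn - π n) ≫ (h n i).exists_splitEpi.some.section_) n
    have hs : Fan.IsLimit.lift hlim x ≫ (diff F).f i = 𝟙 P := Fan.IsLimit.hom_ext hlim _ _ fun n => by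
      have e := congrArg (fun z => HomologicalComplex.Hom.f z i) (diff_π F n)
      simp only [HomologicalComplex.comp_f, HomologicalComplex.sub_f_apply] at e
      show (Fan.IsLimit.lift hlim x ≫ (diff F).f i) ≫ π n = 𝟙 P ≫ π n
      have f1 : ∀ m, Fan.IsLimit.lift hlim x ≫ π m = x m := Fan.IsLimit.fac hlim x
      rw [Category.assoc, e, Preadditive.comp_sub, f1, ← Category.assoc]
      erw [f1]
      show x n - ((x n - π n) ≫ (h n i).exists_splitEpi.some.section_) ≫ (step F n).f i = _
      rw [Category.assoc, (h n i).exists_splitEpi.some.id, Category.comp_id, sub_sub_cancel, Category.id_comp]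
    exact SplitEpi.epi ⟨_, hs⟩
  exact HomologicalComplex.epi_of_epi_f _ (inferInstance : ∀ i, Epi ((diff F).f i))

variable [HasExactLimitsOfShape (Discrete ℕ) A]

/-- A product of maps inducing isomorphisms in a degree induces one. -/
theorem quasiIsoAt_piMap {X Y : ℕ → CochainComplex A ℤ} (f : ∀ n, X n ⟶ Y n) (i : ℤ)
    (hf : ∀ n, QuasiIsoAt (f n) i) : QuasiIsoAt (Limits.Pi.map f) i := by
  haveI : QuasiIsoAt (ExactProd8.famMap f) i := by
    refine (quasiIsoAt_iff _ _).2 ⟨?_⟩
    let φ := (HomologicalComplex.shortComplexFunctor (Discrete ℕ ⥤ A) (ComplexShape.up ℤ) i).map (ExactProd8.famMap f)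
    haveI : ∀ a, IsIso ((ShortComplex.homologyMap φ).app a) := fun a => by
      have hq : ShortComplex.QuasiIso (((evaluation (Discrete ℕ) A).obj a).mapShortComplex.map φ) :=
        (quasiIsoAt_iff (f a.as) i).1 (hf a.as)
      haveI := hq.1
      exact (NatIso.isIso_map_iff (ShortComplex.homologyFunctorIso ((evaluation (Discrete ℕ) A).obj a)) φ).1 hq.1
    exact NatIso.isIso_of_isIso_app _
  haveI : (lim (J := Discrete ℕ) (C := A)).Additive := Functor.additive_of_preserves_binary_products _
  haveI : PreservesFiniteLimits (lim (J := Discrete ℕ) (C := A)) :=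
    ((constLimAdj : _ ⊣ (lim (J := Discrete ℕ) (C := A))).rightAdjoint_preservesLimits :
      PreservesLimitsOfSize.{0, 0} _).preservesFiniteLimits
  haveI : QuasiIsoAt (((lim (J := Discrete ℕ) (C := A)).mapHomologicalComplex (ComplexShape.up ℤ)).map
      (ExactProd8.famMap f)) i := inferInstance
  let eX := (productIsProduct X).conePointUniqueUpToIso (ExactProd8.isLimitFan X)
  let eY := (productIsProduct Y).conePointUniqueUpToIso (ExactProd8.isLimitFan Y)
  have h : Limits.Pi.map f = eX.hom ≫ ((lim (J := Discrete ℕ) (C := A)).mapHomologicalComplex (ComplexShape.up ℤ)).map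
      (ExactProd8.famMap f) ≫ eY.inv := by
    refine Pi.hom_ext _ _ fun n => ?_
    rw [Limits.Pi.map_π, Category.assoc, Category.assoc]
    have h1 : eY.inv ≫ Pi.π Y n = (ExactProd8.fan Y).proj n :=
      IsLimit.conePointUniqueUpToIso_inv_comp (productIsProduct Y) (ExactProd8.isLimitFan Y) ⟨n⟩
    have h2 : eX.hom ≫ (ExactProd8.fan X).proj n = Pi.π X n :=
      IsLimit.conePointUniqueUpToIso_hom_comp (productIsProduct X) (ExactProd8.isLimitFan X) ⟨n⟩
    rw [h1, ← h2, Category.assoc]
    congr 1
    ext j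
    exact (limMap_π ((ExactProd8.famMap f).f j) ⟨n⟩).symm
  rw [h]
  infer_instance

/-- The limit of a degreewise split tower sees the homology of an eventually equivalent constant tower. -/
theorem quasiIsoAt_lift {K : CochainComplex A ℤ} (F : ℕᵒᵖ ⥤ CochainComplex A ℤ)
    (hF : ∀ n i, IsSplitEpi ((step F n).f i)) (κ : (Functor.const ℕᵒᵖ).obj K ⟶ F) (i : ℤ)
    (h₁ : ∀ n, QuasiIsoAt (κ.app (op n)) (i - 1)) (h₂ : ∀ n, QuasiIsoAt (κ.app (op n)) i) :
    QuasiIsoAt ((isLimitKerCone F).lift ⟨K, κ⟩) i := by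
  let T := (Functor.const ℕᵒᵖ).obj K
  haveI e₁ : Epi (diff T) := epi_diff T fun n j => by
    rw [show (step T n).f j = 𝟙 _ from rfl]; infer_instance
  haveI e₂ : Epi (diff F) := epi_diff F hF
  let S₁ := ShortComplex.mk (kernel.ι (diff T)) (diff T) (kernel.condition _)
  let S₂ := ShortComplex.mk (kernel.ι (diff F)) (diff F) (kernel.condition _)
  have hS₁ : S₁.ShortExact := { exact := ShortComplex.exact_of_f_is_kernel _ (kernelIsKernel _) }
  have hS₂ : S₂.ShortExact := { exact := ShortComplex.exact_of_f_is_kernel _ (kernelIsKernel _) }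
  let φ : S₁ ⟶ S₂ :=
    { τ₁ := kernel.map (diff T) (diff F) _ _ (diff_natural κ)
      τ₂ := Limits.Pi.map fun n => κ.app (op n)
      τ₃ := Limits.Pi.map fun n => κ.app (op n)
      comm₁₂ := by simp [S₁, S₂, kernel.map]
      comm₂₃ := (diff_natural κ).symm }
  haveI := quasiIsoAt_piMap (fun n => κ.app (op n)) (i - 1) h₁
  haveI := quasiIsoAt_piMap (fun n => κ.app (op n)) i h₂
  have hij : (ComplexShape.up ℤ).Rel (i - 1) i := sub_add_cancel i 1
  let m := HomologicalComplex.HomologySequence.mapComposableArrows₅ φ hS₁ hS₂ (i - 1) i hij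
  have hx₁ := HomologicalComplex.HomologySequence.composableArrows₅_exact hS₁ (i - 1) i hij
  have hx₂ := HomologicalComplex.HomologySequence.composableArrows₅_exact hS₂ (i - 1) i hij
  have hp : ∀ j, QuasiIsoAt (Limits.Pi.map fun n => κ.app (op n)) j →
      IsIso (HomologicalComplex.homologyMap (Limits.Pi.map fun n => κ.app (op n)) j) := fun j hj =>
    (quasiIsoAt_iff_isIso_homologyMap _ _).1 hj
  haveI := hp (i - 1) inferInstance
  haveI := hp i inferInstance
  haveI : Mono (HomologicalComplex.homologyMap φ.τ₁ i) := by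
    apply Abelian.mono_of_epi_of_mono_of_mono ((ComposableArrows.δ₀Functor ⋙ ComposableArrows.δlastFunctor).map m)
    · exact hx₁.δ₀.δlast
    · exact hx₂.δ₀.δlast
    · exact (inferInstance : Epi (HomologicalComplex.homologyMap (Limits.Pi.map fun n => κ.app (op n)) (i - 1)))
    · exact (inferInstance : Mono (HomologicalComplex.homologyMap (Limits.Pi.map fun n => κ.app (op n)) (i - 1)))
    · exact (inferInstance : Mono (HomologicalComplex.homologyMap (Limits.Pi.map fun n => κ.app (op n)) i))
  haveI : Epi (HomologicalComplex.homologyMap φ.τ₁ i) := by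
    apply Abelian.epi_of_epi_of_epi_of_mono ((ComposableArrows.δ₀Functor ⋙ ComposableArrows.δ₀Functor).map m)
    · exact hx₁.δ₀.δ₀
    · exact hx₂.δ₀.δ₀
    · exact (inferInstance : Epi (HomologicalComplex.homologyMap (Limits.Pi.map fun n => κ.app (op n)) (i - 1)))
    · exact (inferInstance : Epi (HomologicalComplex.homologyMap (Limits.Pi.map fun n => κ.app (op n)) i))
    · exact (inferInstance : Mono (HomologicalComplex.homologyMap (Limits.Pi.map fun n => κ.app (op n)) i))
  haveI : QuasiIsoAt φ.τ₁ i := (quasiIsoAt_iff_isIso_homologyMap _ _).2 (isIso_of_mono_of_epi _)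
  haveI := isIso_toKernel_const (C := CochainComplex A ℤ) K
  rw [show (isLimitKerCone F).lift ⟨K, κ⟩ = (isLimitKerCone T).lift ⟨K, 𝟙 _⟩ ≫ φ.τ₁ from
    ((isLimitKerCone F).hom_ext fun j => by
      obtain ⟨n⟩ := j
      rw [(isLimitKerCone F).fac, Category.assoc]
      show _ = _ ≫ φ.τ₁ ≫ kernel.ι (diff F) ≫ Pi.π _ n
      rw [← Category.assoc φ.τ₁, show φ.τ₁ ≫ kernel.ι (diff F) = kernel.ι (diff T) ≫ φ.τ₂ from φ.comm₁₂,
        Category.assoc, Limits.Pi.map_π]
      rw [← Category.assoc (kernel.ι (diff T)), ← Category.assoc]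
      erw [(isLimitKerCone T).fac ⟨K, 𝟙 _⟩ (op n)]
      exact (Category.id_comp _).symm)]
  infer_instance

/-- The natural map to the shifted tower. -/
theorem quasiIsoAt_limit_lift [HasLimitsOfShape ℕᵒᵖ A] {K : CochainComplex A ℤ} (F : ℕᵒᵖ ⥤ CochainComplex A ℤ)
    (hF : ∀ n i, IsSplitEpi ((step F n).f i)) (κ : (Functor.const ℕᵒᵖ).obj K ⟶ F) (i : ℤ) (N : ℕ)
    (h₁ : ∀ n, N ≤ n → QuasiIsoAt (κ.app (op n)) (i - 1)) (h₂ : ∀ n, N ≤ n → QuasiIsoAt (κ.app (op n)) i) :
    QuasiIsoAt (limit.lift F ⟨K, κ⟩) i := by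
  have hmono : Monotone fun n : ℕ => n + N := fun a b h => Nat.add_le_add_right h N
  let s := hmono.functor
  haveI : s.Final := (Monotone.final_functor_iff hmono).2 fun j => ⟨j, Nat.le_add_right j N⟩
  let F' := s.op ⋙ F
  let κ' : (Functor.const ℕᵒᵖ).obj K ⟶ F' :=
    { app := fun j => κ.app (s.op.obj j)
      naturality := fun _ _ g => κ.naturality (s.op.map g) }
  haveI := quasiIsoAt_lift F' (fun n j => by
    have hn : n + 1 + N = n + N + 1 := by omega
    let e := eqToIso (show F'.obj (op (n + 1)) = F.obj (op (n + N + 1)) from congrArg (fun m => F.obj (op m)) hn)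
    have : step F' n = e.hom ≫ step F (n + N) := by
      show F.map (s.op.map (homOfLE (Nat.le_succ n)).op) = e.hom ≫ F.map (homOfLE (Nat.le_succ (n + N))).op
      simp only [e, eqToIso.hom]
      rw [← eqToHom_map F (congrArg op hn), ← F.map_comp]
      rfl
    rw [this, HomologicalComplex.comp_f]
    haveI := hF (n + N) j
    haveI : IsIso (e.hom.f j) := inferInstanceAs (IsIso (((HomologicalComplex.eval _ _ j).mapIso e).hom))
    exact ⟨⟨⟨(hF (n + N) j).exists_splitEpi.some.section_ ≫ inv (e.hom.f j), by simp⟩⟩⟩) κ' i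
    (fun n => h₁ _ (Nat.le_add_left N n)) (fun n => h₂ _ (Nat.le_add_left N n))
  let e := (isLimitKerCone F').conePointUniqueUpToIso (limit.isLimit F') ≪≫ Functor.Initial.limitIso s.op F
  rw [show limit.lift F ⟨K, κ⟩ = (isLimitKerCone F').lift ⟨K, κ'⟩ ≫ e.hom from by
    rw [← cancel_mono (Functor.Initial.limitIso s.op F).inv]
    refine limit.hom_ext fun j => ?_
    simp only [e, Iso.trans_hom, Category.assoc, Iso.hom_inv_id_assoc, Iso.hom_inv_id, Category.comp_id]
    erw [IsLimit.conePointUniqueUpToIso_hom_comp (isLimitKerCone F') (limit.isLimit F') j, (isLimitKerCone F').fac]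
    simp [Functor.Initial.limitIso, κ']]
  infer_instance

end Groth.Agent.TowerKInj13

end
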